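import Cfsg.Agent.H704.Bridge
import Cfsg.Agent.H615.AltConj
import Cfsg.Agent.H614.IndexTwo
import Cfsg.Agent.H797.AD.Defs
import Cfsg.Agent.Blocks.Basic
import Cfsg.Prelude.Def_DegreeGraph

/-!
# S4766: self-conjugate partitions and the degrees of the alternating groups (helper117)

* `bt l` : the strictly increasing tuple of a partition, `prt_bt : prt (bt l) = l`;
* `isRefl_bt` : for a self-conjugate partition the tuple is its own reflection;
* `exists_alt_deg` : a self-conjugate partition `l` of `n` gives a character `θ` of `A_n` with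
  `2 · θ(1) · hookProd l = n !`;
* `mem_charDegrees_perm` : `d ∈ charDegrees S_n ↔ IsDeg n d`;
* `exists_deg_of_notHalf`, `bridge` : `NotHalf n` ⇒ `charDegrees A_n ⊄ charDegrees S_n`.
-/

set_option autoImplicit false
set_option linter.unusedSectionVars false

namespace Cfsg.Agent.H117.O1

open Finset Cfsg Cfsg.Agent.Characters.Core Cfsg.Agent.H614 Cfsg.Agent.H615.AltRefl Cfsg.Agent.H615.AltConj
open Cfsg.Agent.H704
open scoped ComplexConjugate

section Tuple

/-- the strictly increasing tuple of a partition -/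
def bt (l : List ℕ) : Fin l.length → ℕ := fun i => l.getD (l.length - 1 - i) 0 + i

theorem getD_anti {l : List ℕ} (h : l.Pairwise (· ≥ ·)) {i j : ℕ} (hij : i ≤ j) : l.getD j 0 ≤ l.getD i 0 := by
  by_contra hcon
  push Not at hcon
  have h1 := (lt_colLen_iff h j (l.getD i 0)).2 hcon
  have h2 := (lt_colLen_iff h i (l.getD i 0)).1 (lt_of_le_of_lt hij h1)
  omega

theorem strictMono_bt {l : List ℕ} (h : l.Pairwise (· ≥ ·)) : StrictMono (bt l) := by
  intro i j hij
  have h1 : (i : ℕ) < j := hij
  have h2 : l.getD (l.length - 1 - i) 0 ≤ l.getD (l.length - 1 - j) 0 := getD_anti h (by omega)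
  unfold bt
  omega

theorem lam_bt : ∀ l : List ℕ, lam l.length (bt l) = l := by
  intro l
  induction l with
  | nil => rfl
  | cons a l ih =>
    change (bt (a :: l) (Fin.last l.length) - l.length) ::
      lam l.length (fun i => bt (a :: l) i.castSucc) = a :: l
    have h1 : bt (a :: l) (Fin.last l.length) = a + l.length := by
      unfold bt
      simp
    have h2 : (fun i : Fin l.length => bt (a :: l) i.castSucc) = bt l := by
      funext i
      unfold bt
      have h3 : (a :: l).length - 1 - (i.castSucc : ℕ) = (l.length - 1 - (i : ℕ)) + 1 := by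
        have := i.2
        simp only [List.length_cons, Fin.val_castSucc]
        omega
      rw [h3, List.getD_cons_succ]
      rfl
    rw [h1, h2, ih, Nat.add_sub_cancel]

theorem prt_bt {l : List ℕ} (h : ∀ a ∈ l, 0 < a) : prt (bt l) = l := by
  unfold prt
  rw [lam_bt, List.filter_eq_self]
  intro a ha
  simpa using h a ha

theorem sum_bt {l : List ℕ} {n : ℕ} (h : IsPart l n) :
    ∑ i, bt l i = n + ∑ i : Fin l.length, (i : ℕ) := by
  have h1 := sum_lam l.length (bt l) (strictMono_bt h.sorted)
  rw [lam_bt, h.sum] at h1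
  exact h1.symm

/-- the tuple of a self-conjugate partition is its own reflection -/
theorem isRefl_bt {l : List ℕ} {n : ℕ} (h : IsPart l n) (ht : transpose l = l) : IsRefl (bt l) (bt l) := by
  have hlen : l.headD 0 = l.length := by
    have := length_transpose l
    rw [ht] at this
    exact this.symm
  have hsym : ∀ i j : ℕ, i < l.getD j 0 ↔ j < l.getD i 0 := by
    intro i j
    have h1 : l.getD j 0 = colLen l j := by
      have := getD_transpose h.sorted j
      rwa [ht] at this
    rw [h1]
    exact lt_colLen_iff h.sorted i j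
  have hinj : Function.Injective (bt l) := (strictMono_bt h.sorted).injective
  have hlt : ∀ i, bt l i < l.length + l.length := by
    intro i
    have h1 := getD_le_headD h.sorted (l.length - 1 - i)
    have := i.2
    unfold bt
    omega
  have hdis : ∀ i j : Fin l.length, bt l i + bt l j ≠ l.length + l.length - 1 := by
    intro i j hij
    have hi := i.2
    have hj := j.2
    have h1 := hsym (l.length - 1 - i) (l.length - 1 - j)
    unfold bt at hij
    by_cases h2 : l.length - 1 - (i : ℕ) < l.getD (l.length - 1 - j) 0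
    · have h3 := h1.1 h2
      omega
    · have h3 := fun h4 => h2 (h1.2 h4)
      omega
  refine ⟨hinj, hinj, hlt, hlt, fun b hb => ?_⟩
  constructor
  · rintro ⟨i, rfl⟩ ⟨j, hj⟩
    apply hdis i j
    have := hlt i
    omega
  · intro hb'
    by_contra hcon
    -- counting
    set A : Finset ℕ := univ.image (bt l) with hA
    set B : Finset ℕ := univ.image (fun i => l.length + l.length - 1 - bt l i) with hB
    have hcA : A.card = l.length := by rw [hA, Finset.card_image_of_injective _ hinj, Finset.card_univ, Fintype.card_fin]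
    have hcB : B.card = l.length := by
      rw [hB, Finset.card_image_of_injective, Finset.card_univ, Fintype.card_fin]
      intro i j hij
      apply hinj
      have h1 := hlt i
      have h2 := hlt j
      have h3 : l.length + l.length - 1 - bt l i = l.length + l.length - 1 - bt l j := hij
      omega
    have hd : Disjoint A B := by
      rw [Finset.disjoint_left]
      rintro x hx hx'
      obtain ⟨i, -, rfl⟩ := Finset.mem_image.1 hx
      obtain ⟨j, -, hj⟩ := Finset.mem_image.1 hx'
      apply hdis i j
      have h1 := hlt i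
      have h2 := hlt j
      omega
    have hsub : A ∪ B ⊆ (range (l.length + l.length)).erase b := by
      intro x hx
      rw [Finset.mem_erase, Finset.mem_range]
      rcases Finset.mem_union.1 hx with hx | hx
      · obtain ⟨i, -, rfl⟩ := Finset.mem_image.1 hx
        exact ⟨fun h => hcon ⟨i, h⟩, hlt i⟩
      · obtain ⟨i, -, rfl⟩ := Finset.mem_image.1 hx
        have h1 := hlt i
        refine ⟨fun h => hb' ⟨i, ?_⟩, by omega⟩
        omega
    have h1 := Finset.card_le_card hsub
    rw [Finset.card_union_of_disjoint hd, hcA, hcB, Finset.card_erase_of_mem (Finset.mem_range.2 hb),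
      Finset.card_range] at h1
    omega

end Tuple

section Chars

/-- a restriction has an irreducible constituent -/
theorem exists_constituent {G : Type*} [Group G] [Fintype G] (N : Subgroup G) [Fintype N] {χ : G → ℂ}
    (hχ : IsIrrCharacter G χ) : ∃ θ : N → ℂ, IsIrrCharacter N θ ∧ classInner (fun n : N => χ n) θ ≠ 0 := by
  by_contra hcon
  push Not at hcon
  have h1 := Characters.Core.classFunction_eq_zero (G := N) (f := fun n : N => χ n)
    (Characters.Core.isCharacter_isClassFunction
      (Characters.Core.isCharacter_comp N.subtype (Characters.Core.isIrr_isCharacter hχ)))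
    (fun θ hθ => hcon θ hθ)
  have h2 := congrFun h1 1
  obtain ⟨m, hm, h3⟩ := Characters.Core.isIrr_apply_one hχ
  simp only [OneMemClass.coe_one, Pi.zero_apply] at h2
  rw [h3] at h2
  exact hm.ne' (by exact_mod_cast h2)

/-- an irreducible character vanishing outside of a subgroup of index two splits -/
theorem exists_half {G : Type*} [Group G] [Fintype G] (N : Subgroup G) [N.Normal] [Fintype N] (hN2 : N.index = 2)
    {χ : G → ℂ} (hχ : IsIrrCharacter G χ) (hv : ∀ g, g ∉ N → χ g = 0) :
    ∃ θ : N → ℂ, IsIrrCharacter N θ ∧ χ 1 = 2 * θ 1 := by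
  classical
  obtain ⟨θ, hθ, hne⟩ := exists_constituent N hχ
  refine ⟨θ, hθ, ?_⟩
  rcases restrict_two N hN2 hχ hθ hne with h | h
  · exfalso
    have h1 := classInner_irr_self hχ
    have h2 := classInner_irr_self hθ
    rw [classInner_def] at h1 h2
    have hG : (Nat.card G : ℂ) ≠ 0 := card_ne_zero_complex
    have hNc : (Nat.card N : ℂ) ≠ 0 := card_ne_zero_complex
    have hcard : (Nat.card G : ℂ) = Nat.card N * 2 := by
      rw [← Subgroup.card_mul_index N, hN2]; push_cast; rfl
    have h3 : ∑ g : G, χ g * conj (χ g) = Nat.card G := by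
      field_simp at h1
      linear_combination h1
    have h4 : ∑ n : N, θ n * conj (θ n) = Nat.card N := by
      field_simp at h2
      linear_combination h2
    have h5 : ∑ g ∈ univ.filter (fun g => g ∈ N), χ g * conj (χ g) = ∑ n : N, χ n * conj (χ n) :=
      Finset.sum_subtype _ (by simp) (fun g => χ g * conj (χ g))
    have h6 := Finset.sum_filter_add_sum_filter_not univ (fun g => g ∈ N) (fun g => χ g * conj (χ g))
    have h7 : ∑ g ∈ univ.filter (fun g => ¬ g ∈ N), χ g * conj (χ g) = 0 := by
      refine Finset.sum_eq_zero fun g hg => ?_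
      rw [hv g (Finset.mem_filter.1 hg).2, zero_mul]
    rw [h5, h7, add_zero, h3] at h6
    have h8 : ∑ n : N, χ n * conj (χ n) = ∑ n : N, θ n * conj (θ n) :=
      Finset.sum_congr rfl fun n _ => by rw [h n]
    rw [h8, h4, hcard] at h6
    have h9 : (Nat.card N : ℂ) = 0 := by linear_combination -h6
    exact hNc h9
  · exact h.1

/-- **a self-conjugate partition gives a character of the alternating group of half the degree** -/
theorem exists_alt_deg {n : ℕ} (hn : 2 ≤ n) {l : List ℕ} (h : IsPart l n) (ht : transpose l = l) :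
    ∃ d ∈ charDegrees (alternatingGroup (Fin n)), 2 * d * hookProd l = n.factorial := by
  classical
  have hnt : Nontrivial (Fin n) := Fin.nontrivial_iff_two_le.2 hn
  have hβ := strictMono_bt h.sorted
  have hs := sum_bt h
  have hs' : ∑ i, bt l i = Fintype.card (Fin n) + ∑ i : Fin l.length, (i : ℕ) := by rw [Fintype.card_fin]; exact hs
  have hirr : IsIrrCharacter (Equiv.Perm (Fin n)) (ch (Fin n) (bt l)) := isIrr_ch hβ hs'
  have hv : ∀ g : Equiv.Perm (Fin n), g ∉ alternatingGroup (Fin n) → ch (Fin n) (bt l) g = 0 := by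
    intro g hg
    have h1 := ch_refl (isRefl_bt h ht) hβ hβ hs' g
    have h2 : sgn g = -1 := by
      unfold sgn
      rw [Equiv.Perm.mem_alternatingGroup] at hg
      rcases Int.units_eq_one_or (Equiv.Perm.sign g) with h3 | h3
      · exact absurd h3 hg
      · rw [h3]; simp
    rw [h2] at h1
    have h3 : (2 : ℂ) * ch (Fin n) (bt l) g = 0 := by linear_combination h1
    exact (mul_eq_zero.1 h3).resolve_left two_ne_zero
  obtain ⟨θ, hθ, hθ1⟩ := exists_half (alternatingGroup (Fin n)) alternatingGroup.index_eq_two hirr hv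
  obtain ⟨d, hd, hd1⟩ := Characters.Core.isIrr_apply_one hθ
  refine ⟨d, ⟨⟨θ, hθ⟩, Cfsg.Agent.Blocks.Basic.charDegree_of_eq hd1⟩, ?_⟩
  have h1 := FM_mul_hookProd_prt hβ hs
  rw [prt_bt h.pos] at h1
  have h2 : ch (Fin n) (bt l) 1 = ((FM (Multiset.replicate n 1) (bt l) : ℤ) : ℂ) := by
    rw [ch_apply, ty_one, Fintype.card_fin]
  rw [h2, hd1] at hθ1
  have h3 : FM (Multiset.replicate n 1) (bt l) = 2 * (d : ℤ) := by exact_mod_cast hθ1
  rw [h3] at h1
  exact_mod_cast h1

/-- the degrees of the symmetric groups -/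
theorem isDeg_of_mem {n d : ℕ} (h : d ∈ charDegrees (Equiv.Perm (Fin n))) : IsDeg n d := by
  classical
  obtain ⟨χ, hχ⟩ := h
  obtain ⟨e, he, he'⟩ := isDeg_of_irr χ.2
  rw [Cfsg.Agent.Blocks.Basic.charDegree_of_eq he] at hχ
  rwa [← hχ]

/-- the converse of `isDeg_of_mem` -/
theorem mem_of_isDeg {n d : ℕ} (h : IsDeg n d) : d ∈ charDegrees (Equiv.Perm (Fin n)) := by
  classical
  obtain ⟨l, hl, hd⟩ := h
  have hβ := strictMono_bt hl.sorted
  have hs := sum_bt hl
  have hs' : ∑ i, bt l i = Fintype.card (Fin n) + ∑ i : Fin l.length, (i : ℕ) := by rw [Fintype.card_fin]; exact hs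
  have hirr : IsIrrCharacter (Equiv.Perm (Fin n)) (ch (Fin n) (bt l)) := isIrr_ch hβ hs'
  refine ⟨⟨_, hirr⟩, Cfsg.Agent.Blocks.Basic.charDegree_of_eq ?_⟩
  have h1 := FM_mul_hookProd_prt hβ hs
  rw [prt_bt hl.pos] at h1
  have h2 : ch (Fin n) (bt l) 1 = ((FM (Multiset.replicate n 1) (bt l) : ℤ) : ℂ) := by
    rw [ch_apply, ty_one, Fintype.card_fin]
  refine h2.trans ?_
  have h3 : FM (Multiset.replicate n 1) (bt l) = (d : ℤ) := by
    have h4 : (FM (Multiset.replicate n 1) (bt l) - (d : ℤ)) * (hookProd l : ℤ) = 0 := by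
      rw [sub_mul, h1, ← hd]
      push_cast
      ring
    rcases mul_eq_zero.1 h4 with h5 | h5
    · omega
    · exfalso
      rw [h5, mul_zero] at h1
      exact Nat.factorial_ne_zero n (by exact_mod_cast h1.symm)
  rw [h3]
  push_cast
  rfl

theorem mem_charDegrees_perm {n d : ℕ} : d ∈ charDegrees (Equiv.Perm (Fin n)) ↔ IsDeg n d :=
  ⟨isDeg_of_mem, mem_of_isDeg⟩

/-- **`NotHalf n`: a degree of `A_n` which is not a degree of `S_n`** -/
theorem exists_deg_of_notHalf {n : ℕ} (hn : 2 ≤ n) (h : Cfsg.Agent.H797.AD.NotHalf n) :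
    ∃ d ∈ charDegrees (alternatingGroup (Fin n)), d ∉ charDegrees (Equiv.Perm (Fin n)) := by
  obtain ⟨l, hl, ht, hno⟩ := h
  obtain ⟨d, hd, hd'⟩ := exists_alt_deg hn hl ht
  refine ⟨d, hd, fun h1 => ?_⟩
  obtain ⟨l', hl', h2⟩ := isDeg_of_mem h1
  apply hno l' hl'
  have hd0 : 0 < d := by
    rcases Nat.eq_zero_or_pos d with rfl | h3
    · rw [zero_mul] at h2
      exact absurd h2.symm (Nat.factorial_ne_zero n)
    · exact h3
  apply Nat.eq_of_mul_eq_mul_left hd0
  rw [h2, ← hd']
  ring

/-- **`NotHalf n` ⇒ `charDegrees S_n ≠ charDegrees A_n`** -/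
theorem bridge {n : ℕ} (hn : 2 ≤ n) (h : Cfsg.Agent.H797.AD.NotHalf n) :
    charDegrees (Equiv.Perm (Fin n)) ≠ charDegrees (alternatingGroup (Fin n)) := by
  intro heq
  obtain ⟨d, hd, hd'⟩ := exists_deg_of_notHalf hn h
  rw [heq] at hd'
  exact hd' hd

end Chars

end Cfsg.Agent.H117.O1
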